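import Cfsg.Agent.Lib.Spor.Ly.Data
import Cfsg.Agent.Lib.Spor.LyA.Defs
import Cfsg.Agent.Lib.Spor.Ly.Top

set_option autoImplicit false
set_option maxRecDepth 100000
set_option Elab.async false
set_option exponentiation.threshold 100000

namespace Cfsg.Agent.Spor.Ly
open Cfsg.Agent.PG Cfsg.Agent.Spor Cfsg.Agent.Spor.LyA

theorem syp_8 : chkR P L 0 111 ((((((((((syPos czz (((repsT.zip lvsT).drop 1).zip ssz)).drop 29).drop 9).drop 32).drop 9).drop 9).drop 8).drop 8).drop 8).take 8) = true := by decide +kernel

theorem syp_9 : chkR P L 0 111 (((((((((((syPos czz (((repsT.zip lvsT).drop 1).zip ssz)).drop 29).drop 9).drop 32).drop 9).drop 9).drop 8).drop 8).drop 8).drop 8).take 17) = true := by decide +kernel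

theorem syp_10 : chkR P L 0 111 ((((((((((((syPos czz (((repsT.zip lvsT).drop 1).zip ssz)).drop 29).drop 9).drop 32).drop 9).drop 9).drop 8).drop 8).drop 8).drop 8).drop 17).take 11) = true := by decide +kernel

theorem syp_11 : chkR P L 0 111 (((((((((((((syPos czz (((repsT.zip lvsT).drop 1).zip ssz)).drop 29).drop 9).drop 32).drop 9).drop 9).drop 8).drop 8).drop 8).drop 8).drop 17).drop 11).take 8) = true := by decide +kernel

theorem syp_12 : chkR P L 0 111 ((((((((((((((syPos czz (((repsT.zip lvsT).drop 1).zip ssz)).drop 29).drop 9).drop 32).drop 9).drop 9).drop 8).drop 8).drop 8).drop 8).drop 17).drop 11).drop 8).take 21) = true := by decide +kernel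

theorem syp_13 : chkR P L 0 111 (((((((((((((((syPos czz (((repsT.zip lvsT).drop 1).zip ssz)).drop 29).drop 9).drop 32).drop 9).drop 9).drop 8).drop 8).drop 8).drop 8).drop 17).drop 11).drop 8).drop 21).take 13) = true := by decide +kernel

theorem syp_14 : chkR P L 0 111 ((((((((((((((((syPos czz (((repsT.zip lvsT).drop 1).zip ssz)).drop 29).drop 9).drop 32).drop 9).drop 9).drop 8).drop 8).drop 8).drop 8).drop 17).drop 11).drop 8).drop 21).drop 13).take 9) = true := by decide +kernel

theorem syp_15 : chkR P L 0 111 ((((((((((((((((syPos czz (((repsT.zip lvsT).drop 1).zip ssz)).drop 29).drop 9).drop 32).drop 9).drop 9).drop 8).drop 8).drop 8).drop 8).drop 17).drop 11).drop 8).drop 21).drop 13).drop 9) = true := by decide +kernel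

theorem syn_0 : chkN P L (((syNeg (((repsT.zip lvsT).drop 1).zip ssz)).zip syn_p).take 149) = true := by decide +kernel

theorem syn_1 : chkN P L (((syNeg (((repsT.zip lvsT).drop 1).zip ssz)).zip syn_p).drop 149) = true := by decide +kernel

theorem cme_0 : chkR P L 0 111 (cmLet [gw 49] 63 68) = true := by decide +kernel

theorem ceqx_0 : chkR P L 0 111 (eqClaims cgx cwx) = true := by decide +kernel

theorem cgoodx_0 : chkR P L 0 111 (goodClaims (repsT.zip csx)) = true := by decide +kernel

theorem cbadx_0 : chkN P L (((badClaims czx cbx (repsT.zip csx)).zip cbadx_p).take 16) = true := by decide +kernel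

theorem cbadx_1 : chkN P L ((((badClaims czx cbx (repsT.zip csx)).zip cbadx_p).drop 16).take 15) = true := by decide +kernel

theorem cbadx_2 : chkN P L ((((badClaims czx cbx (repsT.zip csx)).zip cbadx_p).drop 16).drop 15) = true := by decide +kernel

theorem md8_0 : chkR P L 0 111 (modClaims LyB.cl8_l mdw8) = true := by decide +kernel

theorem md7_0 : chkR P L 0 111 (modClaims LyB.cl7_l mdw7) = true := by decide +kernel

theorem md6_0 : chkR P L 0 111 (modClaims LyB.cl6_l mdw6) = true := by decide +kernel

theorem md5_0 : chkR P L 0 111 (modClaims LyB.cl5_l mdw5) = true := by decide +kernel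

theorem md4_0 : chkR P L 0 111 (modClaims LyB.cl4_l mdw4) = true := by decide +kernel

theorem md3_0 : chkR P L 0 111 (modClaims LyB.cl3_l mdw3) = true := by decide +kernel

theorem md2_0 : chkR P L 0 111 (modClaims LyB.cl2_l mdw2) = true := by decide +kernel

theorem md1_0 : chkR P L 0 111 (modClaims LyB.cl1_l mdw1) = true := by decide +kernel

end Cfsg.Agent.Spor.Ly
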